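import Cfsg.Agent.Geo.USemisimple

/-!
Semisimple elements of prime order in a unitary group commuting with a nontrivial unipotent element.
-/

set_option autoImplicit false
set_option linter.unusedSectionVars false

namespace CfsgLib.UnitCentPrime

open Polynomial Matrix

/-- A nilpotent matrix commuting with a matrix that has simple spectrum is zero. -/
theorem eq_zero_of_commute {L : Type*} [Field L] {n : ℕ} (B N : Matrix (Fin n) (Fin n) L)
    (S : Finset L) (hS : S.card = n) (hev : ∀ l ∈ S, ∃ v, v ≠ 0 ∧ B *ᵥ v = l • v)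
    (hc : Commute N B) (hN : IsNilpotent N) : N = 0 := by
  classical
  choose v hv0 hv using fun l : S => hev l.1 l.2
  rcases Nat.eq_zero_or_pos n with rfl | hn
  · exact Subsingleton.elim _ _
  have : Nonempty S := (Finset.card_pos.1 (hS ▸ hn)).to_subtype
  have hli : LinearIndependent L v :=
    Module.End.eigenvectors_linearIndependent' (Matrix.toLinAlgEquiv' B) (fun l : S => (l : L))
      Subtype.val_injective v (fun l => ⟨Module.End.mem_eigenspace_iff.2 (by simpa using hv l), hv0 l⟩)
  let b := basisOfLinearIndependentOfCardEqFinrank hli (by simp [hS])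
  have hb : ∀ l, b l = v l := fun l => by simp [b]
  have hcoord : ∀ (k : S) x, b.coord k (B *ᵥ x) = k * b.coord k x := by
    intro k x
    have h : (b.coord k).comp (Matrix.mulVecLin B) = (k : L) • b.coord k := by
      refine b.ext fun l => ?_
      rw [LinearMap.comp_apply, Matrix.mulVecLin_apply, hb, hv, map_smul, LinearMap.smul_apply, ← hb l,
        Module.Basis.coord_apply, Module.Basis.repr_self]
      rcases eq_or_ne l k with rfl | hlk
      · rfl
      · simp [Finsupp.single_eq_of_ne hlk.symm]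
    exact LinearMap.congr_fun h x
  have key : ∀ l, N *ᵥ v l = 0 := by
    intro l
    have h1 : B *ᵥ (N *ᵥ v l) = (l : L) • (N *ᵥ v l) := by
      rw [Matrix.mulVec_mulVec, ← hc.eq, ← Matrix.mulVec_mulVec, hv, Matrix.mulVec_smul]
    set x := N *ᵥ v l with hx
    have h2 : x = b.coord l x • v l := by
      refine b.ext_elem fun k => ?_
      rw [map_smul, ← hb, Module.Basis.repr_self, Finsupp.smul_apply]
      rcases eq_or_ne l k with rfl | hlk
      · simp
      · rw [Finsupp.single_eq_of_ne hlk.symm, smul_zero]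
        have h3 := hcoord k x
        rw [h1, map_smul, smul_eq_mul] at h3
        have h4 : ((l : L) - k) * b.coord k x = 0 := by rw [sub_mul, h3, sub_self]
        exact (mul_eq_zero.1 h4).resolve_left (sub_ne_zero.2 fun h => hlk (Subtype.ext h))
    set c := b.coord l x
    have hpow : ∀ j, (N ^ j) *ᵥ v l = c ^ j • v l := by
      intro j
      induction j with
      | zero => simp
      | succ j ih => rw [pow_succ, ← Matrix.mulVec_mulVec, ← hx, h2, Matrix.mulVec_smul, ih, smul_smul, ← pow_succ']
    obtain ⟨k, hk⟩ := hN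
    have h5 := hpow k
    rw [hk, Matrix.zero_mulVec] at h5
    have h6 : c = 0 := eq_zero_of_pow_eq_zero ((smul_eq_zero.1 h5.symm).resolve_right (hv0 l))
    rw [h2, h6, zero_smul]
  apply Matrix.toLinAlgEquiv'.injective
  refine b.ext fun l => ?_
  simp [hb, key]

/-- The root multiset of the dual of a split polynomial. -/
theorem roots_dual_prod {L : Type*} [Field L] (τ : L →+* L) (M : Multiset L) (h0 : (0 : L) ∉ M) :
    CfsgLib.Geo.USemi.dual τ (M.map fun a => X - C a).prod = ((M.map fun a => (τ a)⁻¹).map fun a => X - C a).prod := by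
  induction M using Multiset.induction_on with
  | empty => simp [CfsgLib.Geo.USemi.dual, Polynomial.reverse]
  | cons a M ih =>
    rw [Multiset.mem_cons, not_or] at h0
    rw [Multiset.map_cons, Multiset.prod_cons, CfsgLib.Geo.USemi.dual_mul, ih h0.2, Multiset.map_cons,
      Multiset.map_cons, Multiset.prod_cons]
    congr 1
    have hc : (X - C a).coeff 0 ≠ 0 := by simpa using Ne.symm h0.1
    rw [(CfsgLib.Geo.USemi.monic_dual τ hc).eq_X_add_C (by rw [CfsgLib.Geo.USemi.natDegree_dual τ hc, natDegree_X_sub_C]),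
      CfsgLib.Geo.USemi.coeff_zero_dual τ (monic_X_sub_C a)]
    simp [inv_neg, sub_eq_add_neg]

/-- The dual commutes with extension of the field. -/
theorem dual_map {K L : Type*} [Field K] [Field L] (ι : K →+* L) (σ : K →+* K) (τ : L →+* L)
    (h : ∀ x, τ (ι x) = ι (σ x)) (f : K[X]) :
    (CfsgLib.Geo.USemi.dual σ f).map ι = CfsgLib.Geo.USemi.dual τ (f.map ι) := by
  ext k
  rw [CfsgLib.Geo.USemi.dual, CfsgLib.Geo.USemi.dual, coeff_map, coeff_C_mul, coeff_C_mul, coeff_reverse,
    coeff_reverse, natDegree_map, natDegree_map, natDegree_map, coeff_map, coeff_map, coeff_map, coeff_map,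
    map_mul, map_inv₀, ← h, ← h]

/-- A unipotent element commuting with a unitary element of large prime order is trivial. -/
theorem eq_one_of_commute_unitary {K : Type*} [Field K] [Fintype K] {q n r p : ℕ} (hK : Nat.card K = q ^ 2)
    [Fact p.Prime] [CharP K p] (hr : r.Prime) (hrp : r ≠ p) (hn : 3 ≤ n)
    (hu : ((q : ℕ) : ZMod r) ≠ 0) (he : ∀ i, 1 ≤ i → i + 2 ≤ n → (-(q : ZMod r)) ^ i ≠ 1)
    (B : GL (Fin n) K) (hB : B ∈ Cfsg.GU n K q) (hB1 : B ^ r = 1) (hBne : B ≠ 1)
    (A : Matrix (Fin n) (Fin n) K) (hA : A ^ p = 1) (hAB : Commute A B.val) : A = 1 := by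
  classical
  haveI : Fact r.Prime := ⟨hr⟩
  let L := AlgebraicClosure K
  let ι : K →+* L := algebraMap K L
  have hι : Function.Injective ι := ι.injective
  haveI : CharP L p := charP_of_injective_algebraMap hι p
  obtain ⟨s, hs⟩ : ∃ s, q = p ^ s := by
    obtain ⟨k, -, hk⟩ := FiniteField.card K p
    rw [Fintype.card_eq_nat_card, hK] at hk
    obtain ⟨s, -, hs⟩ := (Nat.dvd_prime_pow Fact.out).1 (show q ∣ p ^ (k : ℕ) from hk ▸ dvd_pow_self q two_ne_zero)
    exact ⟨s, hs⟩
  let τ : L →+* L := iterateFrobenius L p s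
  have hτ : ∀ x, τ x = x ^ q := fun x => by rw [hs]; exact iterateFrobenius_def ..
  set f := (B.val.map ι).charpoly with hf
  set M := f.roots with hM
  have hfM : (M.map fun a => X - C a).prod = f :=
    ((IsAlgClosed.splits f).eq_prod_roots_of_monic (Matrix.charpoly_monic _)).symm
  have hcard : M.card = n := by
    rw [hM, IsAlgClosed.card_roots_eq_natDegree, hf, Matrix.charpoly_natDegree_eq_dim, Fintype.card_fin]
  have hBr : (B.val.map ι) ^ r = 1 := by
    rw [← RingHom.mapMatrix_apply, ← map_pow, ← Units.val_pow_eq_pow_val, hB1, Units.val_one, map_one]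
  have hev : ∀ l ∈ M, ∃ v, v ≠ 0 ∧ (B.val.map ι) *ᵥ v = l • v := by
    intro l hl
    have h := (Polynomial.mem_roots'.1 hl).2
    rw [IsRoot.def, hf, Matrix.eval_charpoly] at h
    obtain ⟨v, hv, hv0⟩ := Matrix.exists_mulVec_eq_zero_iff.2 h
    refine ⟨v, hv, ?_⟩
    rw [Matrix.sub_mulVec, sub_eq_zero] at hv0
    rw [← hv0]
    funext i
    simp [Matrix.scalar_apply, Matrix.mulVec_diagonal]
  have hroot : ∀ l ∈ M, l ^ r = 1 := by
    intro l hl
    obtain ⟨v, hv, hv1⟩ := hev l hl
    have hpow : ∀ j, (B.val.map ι) ^ j *ᵥ v = l ^ j • v := by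
      intro j
      induction j with
      | zero => simp
      | succ j ih => rw [pow_succ, ← Matrix.mulVec_mulVec, hv1, Matrix.mulVec_smul, ih, smul_smul, ← pow_succ']
    have h := hpow r
    rw [hBr, Matrix.one_mulVec] at h
    by_contra hne
    exact hv ((smul_eq_zero.1 (show (1 - l ^ r) • v = 0 by rw [sub_smul, one_smul, ← h, sub_self])).resolve_left
      (sub_ne_zero.2 (Ne.symm hne)))
  have h0 : (0 : L) ∉ M := fun h => by simpa [zero_pow hr.ne_zero] using hroot 0 h
  let φ : L → L := fun a => (τ a)⁻¹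
  have hφinj : Function.Injective φ := fun a b h => τ.injective (inv_injective h)
  have hinv : M.map φ = M := by
    have h1 := congrArg (Polynomial.map ι) (CfsgLib.Geo.USemi.dual_charpoly_eq hK hB)
    rw [dual_map ι _ τ (fun x => by rw [hτ, CfsgLib.Forms.frobQ_apply, map_pow]), ← Matrix.charpoly_map] at h1
    change CfsgLib.Geo.USemi.dual τ f = f at h1
    rw [← hfM, roots_dual_prod τ M h0] at h1
    have := congrArg Polynomial.roots h1
    rwa [roots_multiset_prod_X_sub_C, roots_multiset_prod_X_sub_C] at this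
  obtain ⟨l, hl, hl1⟩ : ∃ l ∈ M, l ≠ 1 := by
    by_contra hall
    push Not at hall
    apply hBne
    have hrep : M = Multiset.replicate n 1 := Multiset.eq_replicate.2 ⟨hcard, hall⟩
    have h := Matrix.aeval_self_charpoly (B.val.map ι)
    rw [← hf, ← hfM, hrep, Multiset.map_replicate, Multiset.prod_replicate, map_pow, map_sub, aeval_X, aeval_C,
      map_one] at h
    haveI : Nonempty (Fin n) := ⟨⟨0, by omega⟩⟩
    have h2 : (B.val.map ι - 1) ^ (p ^ n) = 0 :=
      pow_eq_zero_of_le (Nat.lt_pow_self (Fact.out : p.Prime).one_lt).le h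
    rw [sub_pow_char_pow_of_commute p n (Commute.one_right _), one_pow, sub_eq_zero] at h2
    have h3 := Nat.dvd_gcd (orderOf_dvd_of_pow_eq_one hBr) (orderOf_dvd_of_pow_eq_one h2)
    rw [Nat.Coprime.gcd_eq_one (Nat.Coprime.pow_right n ((Nat.coprime_primes hr Fact.out).2 hrp)), Nat.dvd_one,
      orderOf_eq_one_iff] at h3
    apply Units.ext
    rw [Units.val_one]
    exact Matrix.map_injective hι (h3.trans (Matrix.map_one ι (map_zero _) (map_one _)).symm)
  have hlord : orderOf l = r := orderOf_eq_prime (hroot l hl) hl1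
  let u : (ZMod r)ˣ := Units.mk0 (-(q : ZMod r)) (neg_ne_zero.2 hu)
  have hord : n - 1 ≤ orderOf u := by
    by_contra hlt
    refine he (orderOf u) (orderOf_pos u) (by omega) ?_
    exact (Units.val_pow_eq_pow_val u _).symm.trans ((congrArg Units.val (pow_orderOf_eq_one u)).trans Units.val_one)
  let g : ℕ → L := fun i => l ^ (((u ^ i : (ZMod r)ˣ) : ZMod r)).val
  have hpowmod : ∀ {a b : ℕ}, (a : ZMod r) = (b : ZMod r) → l ^ a = l ^ b := fun {a b} h => by
    rw [← pow_mod_orderOf l a, ← pow_mod_orderOf l b, hlord, (ZMod.natCast_eq_natCast_iff' _ _ _).1 h]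
  have hgφ : ∀ i, φ (g i) = g (i + 1) := by
    intro i
    show (τ (g i))⁻¹ = g (i + 1)
    rw [hτ]
    refine inv_eq_of_mul_eq_one_left ?_
    simp only [g]
    rw [← pow_mul, ← pow_add, ← hroot l hl]
    refine hpowmod ?_
    push_cast
    simp only [ZMod.natCast_val, ZMod.cast_id', id_eq, ZMod.natCast_self]
    rw [show (u : ZMod r) = -(q : ZMod r) from rfl]
    ring
  have hcount : ∀ i, M.count (g i) = M.count l := by
    intro i
    induction i with
    | zero => simp [g, ZMod.val_one]
    | succ i ih =>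
      rw [← hgφ, ← ih]
      conv_lhs => rw [← hinv]
      exact Multiset.count_map_eq_count' φ M hφinj _
  have hginj : Set.InjOn g (Finset.range (n - 1) : Set ℕ) := by
    intro i hi j hj hij
    simp only [Finset.coe_range, Set.mem_Iio] at hi hj
    refine pow_injOn_Iio_orderOf (show i < orderOf u by omega) (show j < orderOf u by omega) ?_
    have h := pow_injOn_Iio_orderOf (show (((u ^ i : (ZMod r)ˣ) : ZMod r)).val < orderOf l by rw [hlord]; exact ZMod.val_lt _)
      (show (((u ^ j : (ZMod r)ˣ) : ZMod r)).val < orderOf l by rw [hlord]; exact ZMod.val_lt _) hij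
    exact Units.ext (ZMod.val_injective r h)
  set O := (Finset.range (n - 1)).image g with hO
  have hOc : O.card = n - 1 := by rw [hO, Finset.card_image_of_injOn hginj, Finset.card_range]
  have hnodup : M.Nodup := by
    rw [Multiset.nodup_iff_count_le_one]
    intro x
    have hk : 1 ≤ M.count l := Multiset.one_le_count_iff_mem.2 hl
    have hsum : ∀ T : Finset L, ∑ y ∈ T, M.count y ≤ n := fun T => by
      rw [← hcard, ← Multiset.toFinset_sum_count_eq M]
      refine le_trans ?_ (Finset.sum_le_sum_of_subset (s := T ∩ M.toFinset) Finset.inter_subset_right)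
      rw [← Finset.sum_filter_add_sum_filter_not T (· ∈ M.toFinset), Finset.filter_mem_eq_inter,
        Finset.sum_eq_zero (s := T.filter (¬ · ∈ M.toFinset)) (fun y hy => Multiset.count_eq_zero.2
          (fun h => (Finset.mem_filter.1 hy).2 (Multiset.mem_toFinset.2 h))), add_zero]
    have hOsum : ∑ y ∈ O, M.count y = (n - 1) * M.count l := by
      rw [Finset.sum_eq_card_nsmul (fun y hy => ?_), hOc, smul_eq_mul]
      obtain ⟨i, -, rfl⟩ := Finset.mem_image.1 hy
      exact hcount i
    by_cases hx : x ∈ O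
    · have h := hsum O
      rw [hOsum] at h
      obtain ⟨i, -, rfl⟩ := Finset.mem_image.1 hx
      rw [hcount]
      by_contra h2
      have : (n - 1) * 2 ≤ (n - 1) * M.count l := Nat.mul_le_mul_left _ (by omega)
      omega
    · have h := hsum (insert x O)
      rw [Finset.sum_insert hx, hOsum] at h
      have : (n - 1) * 1 ≤ (n - 1) * M.count l := Nat.mul_le_mul_left _ hk
      omega
  have hzero : A.map ι - 1 = 0 := by
    haveI : Nonempty (Fin n) := ⟨⟨0, by omega⟩⟩
    refine eq_zero_of_commute (B.val.map ι) _ M.toFinset ?_ (fun l hl => hev l (Multiset.mem_toFinset.1 hl)) ?_ ⟨p, ?_⟩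
    · rw [Multiset.toFinset_card_of_nodup hnodup, hcard]
    · exact ((hAB.map ι.mapMatrix)).sub_left (Commute.one_left _)
    · rw [sub_pow_char_of_commute p (Commute.one_right _), ← RingHom.mapMatrix_apply, ← map_pow, hA, map_one,
        one_pow, sub_self]
  rw [sub_eq_zero] at hzero
  exact Matrix.map_injective hι (hzero.trans (Matrix.map_one ι (map_zero _) (map_one _)).symm)

/-- The primes not dividing a small special unitary group. -/
theorem not_dvd_card_SU {K : Type*} [Field K] [Fintype K] {q m r : ℕ} (hK : Nat.card K = q ^ 2) (hr : r.Prime)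
    (hm : 2 ≤ m) (h : ¬ r ∣ Nat.card (Cfsg.SU m K q)) :
    ((q : ℕ) : ZMod r) ≠ 0 ∧ ¬ r ∣ q + 1 ∧ ∀ i, 1 ≤ i → i ≤ m → (-(q : ZMod r)) ^ i ≠ 1 := by
  haveI : Fact r.Prime := ⟨hr⟩
  have hq : 2 ≤ q := CfsgLib.Forms.two_le_q hK
  have hS := CfsgLib.Unitary.card_SU_mul hK (n := m) (by omega)
  rw [CfsgLib.Unitary.card_GU hK] at hS
  set f : ℕ → ℕ := fun i => if Even i then q ^ (i + 1) + 1 else q ^ (i + 1) - 1 with hf
  obtain ⟨j, rfl⟩ : ∃ j, m = j + 1 := ⟨m - 1, by omega⟩
  rw [Finset.prod_range_succ'] at hS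
  have h0 : f 0 = q + 1 := by simp [f]
  change _ = _ * ((∏ k ∈ Finset.range j, f (k + 1)) * f 0) at hS
  rw [h0, ← mul_assoc, mul_comm (q + 1)] at hS
  have hS' := Nat.eq_of_mul_eq_mul_right (Nat.succ_pos q) hS
  rw [hS'] at h
  have hpq : ¬ r ∣ q := fun hd => h (dvd_mul_of_dvd_left
    (dvd_pow hd (by have : 2 ≤ (j + 1) * j := Nat.mul_le_mul (show 2 ≤ j + 1 by omega) (show 1 ≤ j by omega)
                    simp only [Nat.add_sub_cancel]; omega)) _)
  have hterm : ∀ k < j, ¬ r ∣ f (k + 1) := fun k hk hd =>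
    h (dvd_mul_of_dvd_right (hd.trans (Finset.dvd_prod_of_mem (fun k => f (k + 1)) (Finset.mem_range.2 hk))) _)
  have hcast : ∀ i, f i = 0 → False := fun i hi => by
    simp only [f] at hi
    have : 2 ≤ q ^ (i + 1) := hq.trans (Nat.le_self_pow (by omega) q)
    split_ifs at hi <;> omega
  have hsq : ¬ r ∣ q + 1 := by
    intro hd
    refine hterm 0 (by omega) ?_
    have : f (0 + 1) = q ^ 2 - 1 := by simp [f]
    rw [this, show q ^ 2 - 1 = (q + 1) * (q - 1) by rw [← Nat.sq_sub_sq, one_pow]]
    exact dvd_mul_of_dvd_left hd _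
  refine ⟨fun h1 => hpq ((ZMod.natCast_eq_zero_iff _ _).1 h1), hsq, fun i hi1 him h1 => ?_⟩
  rcases eq_or_lt_of_le hi1 with rfl | hi2
  · apply hsq
    rw [pow_one] at h1
    rw [← ZMod.natCast_eq_zero_iff]
    push_cast
    rw [← h1]; ring
  · refine hterm (i - 2) (by omega) ?_
    rw [show i - 2 + 1 = i - 1 by omega, ← ZMod.natCast_eq_zero_iff]
    simp only [f]
    rw [show i - 1 + 1 = i by omega]
    have h2 : 1 ≤ q ^ i := Nat.one_le_pow _ _ (by omega)
    split_ifs with hev
    · have hodd : Odd i := by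
        have := hev.add_one
        rwa [show i - 1 + 1 = i by omega] at this
      rw [hodd.neg_pow] at h1
      push_cast
      rw [← h1]; ring
    · have hiev : Even i := by
        rw [Nat.not_even_iff_odd] at hev
        have := hev.add_one
        rwa [show i - 1 + 1 = i by omega] at this
      rw [hiev.neg_pow] at h1
      rw [Nat.cast_sub h2]
      push_cast
      rw [h1, sub_self]

end CfsgLib.UnitCentPrime
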